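import Cfsg.Agent.J4Large.Main
import Cfsg.Agent.GLFiveSections.Main
import Cfsg.Agent.S5564
import Cfsg.Agent.S5566
import Cfsg.Agent.S5572

/-!
The orders of the normalisers of the large Sylow subgroups from the other statements about the type.
-/

set_option autoImplicit false
set_option linter.style.haveILetI false

namespace CfsgLib.J4Large

open Cfsg CfsgLib.J4Local Subgroup

theorem units_two_eq (u : (ZMod 2)ˣ) : u = 1 := by decide +revert
theorem toGL_bijective {n : Type} [DecidableEq n] [Fintype n] {R : Type} [CommRing R] [Subsingleton Rˣ] :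
    Function.Bijective (Matrix.SpecialLinearGroup.toGL : Matrix.SpecialLinearGroup n R → GL n R) :=
  ⟨Matrix.SpecialLinearGroup.toGL_injective, fun g => ⟨⟨g.1, by
      obtain ⟨u, hu⟩ := (Matrix.isUnit_iff_isUnit_det _).1 g.isUnit
      rw [← hu, Subsingleton.elim u 1, Units.val_one]⟩, Units.ext rfl⟩⟩
theorem card_sl_eq_gl : Nat.card (Matrix.SpecialLinearGroup (Fin 5) (ZMod 2)) = Nat.card (GL (Fin 5) (ZMod 2)) :=
  haveI : Subsingleton (ZMod 2)ˣ := ⟨fun a b => (units_two_eq a).trans (units_two_eq b).symm⟩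
  Nat.card_congr (Equiv.ofBijective _ toGL_bijective)
theorem card_sl_five : Nat.card (Matrix.SpecialLinearGroup (Fin 5) (ZMod 2)) = 9999360 :=
  card_sl_eq_gl.trans CfsgLib.GLFiveSections.card_gl_five

variable {G : Type*} [Group G] [Finite G] [IsSimpleGroup G]

theorem main_of (hG : ¬ IsMulCommutative G) (hJ : IsOfJankoFourType G)
    (horder : Nat.card G = orderJ4)
    (eleven : ∀ V : Subgroup G, Cfsg.IsElementaryAbelian 2 V → Nat.card ↥V = 2 ^ 11 →
      Subgroup.centralizer (V : Set G) ≤ V ∧ ∃ K : Subgroup G, K ≤ Subgroup.normalizer (V : Set G) ∧ K ⊓ V = ⊥ ∧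
        K ⊔ V = Subgroup.normalizer (V : Set G) ∧ Cfsg.Spor.IsoM24 ↥K)
    (cent : ∀ z : G, IsOfJankoFourTypeAt z → ∀ t : G, orderOf t = 2 → ¬ IsConj z t →
      ∃ V K : Subgroup G, V ≤ Subgroup.centralizer ({t} : Set G) ∧ K ≤ Subgroup.centralizer ({t} : Set G) ∧
        Subgroup.centralizer ({t} : Set G) ≤ Subgroup.normalizer (V : Set G) ∧ Cfsg.IsElementaryAbelian 2 V ∧
        Nat.card ↥V = 2 ^ 11 ∧ K ⊓ V = ⊥ ∧ K ⊔ V = Subgroup.centralizer ({t} : Set G) ∧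
        Nonempty (↥K ≃* MulAut ↥Cfsg.Spor.M22))
    (ten : (∃ A : Subgroup G, Cfsg.IsElementaryAbelian 2 A ∧ Nat.card ↥A = 2 ^ 10 ∧ Subgroup.centralizer (A : Set G) = A) ∧
      ∀ A : Subgroup G, Cfsg.IsElementaryAbelian 2 A → Nat.card ↥A = 2 ^ 10 → Subgroup.centralizer (A : Set G) = A →
        ∃ B : Subgroup G, Nonempty (↥B ≃* Matrix.SpecialLinearGroup (Fin 5) (ZMod 2)))
    (seven : ∀ z : G, IsOfJankoFourTypeAt z → ∀ S : Subgroup G, Nat.card ↥S = 7 →
      S ≤ Subgroup.centralizer ({z} : Set G) →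
      Nat.card ↥(Subgroup.normalizer (S : Set G)) = 2 ^ 3 * 3 ^ 2 * 5 * 7) :
    (∀ U : Sylow 23 G, centralizer ((U : Subgroup G) : Set G) = (U : Subgroup G) ∧ Nat.card ↥(normalizer ((U : Subgroup G) : Set G)) = 23 * 22) ∧
    (∀ U : Sylow 29 G, centralizer ((U : Subgroup G) : Set G) = (U : Subgroup G) ∧ Nat.card ↥(normalizer ((U : Subgroup G) : Set G)) = 29 * 28) ∧
    (∀ U : Sylow 31 G, centralizer ((U : Subgroup G) : Set G) = (U : Subgroup G) ∧ Nat.card ↥(normalizer ((U : Subgroup G) : Set G)) = 31 * 10) ∧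
    (∀ U : Sylow 37 G, centralizer ((U : Subgroup G) : Set G) = (U : Subgroup G) ∧ Nat.card ↥(normalizer ((U : Subgroup G) : Set G)) = 37 * 12) ∧
    (∀ U : Sylow 43 G, centralizer ((U : Subgroup G) : Set G) = (U : Subgroup G) ∧ Nat.card ↥(normalizer ((U : Subgroup G) : Set G)) = 43 * 14) := by
  obtain ⟨z, P, hJP⟩ := hJ
  have hz : IsOfJankoFourTypeAt z := ⟨P, hJP⟩
  refine main (z := z) (P := P) ⟨hJP, (Cfsg.Agent.S5563.result hG z P hJP).2.2.2.2,
    Cfsg.Agent.S5564.result hG ⟨z, hz⟩, horder,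
    fun Q hQ hc => (Cfsg.Agent.S5572.result hG z hz Q hc hQ).2.2.2,
    fun Q hQ hc => seven z hz Q hc hQ, fun t ht hnc => ?_, ?_, ?_⟩
  · obtain ⟨V, K, -, -, hCN, hV, hVc, hKV, hKVs, he⟩ := cent z hz t ht hnc
    exact ⟨V, K, hCN, hV, hVc, (eleven V hV hVc).1, hKV, hKVs, he⟩
  · obtain ⟨V, ⟨-, hV, hVc⟩, -⟩ := Cfsg.Agent.S5566.result hG ⟨z, hz⟩ (default : Sylow 2 G)
    obtain ⟨-, K, -, -, -, hK⟩ := eleven V hV hVc
    exact ⟨K, hK⟩
  · obtain ⟨A, hA, hAc, hAC⟩ := ten.1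
    obtain ⟨B, ⟨e⟩⟩ := ten.2 A hA hAc hAC
    exact ⟨B, by rw [Nat.card_congr e.toEquiv, card_sl_five]⟩

end CfsgLib.J4Large
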