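import Mathlib

/-!
The arithmetic behind the orders of the normalisers of the Sylow subgroups at the primes 23, 29, 31, 37, 43
in a group of the order of the fourth Janko group.
-/

set_option autoImplicit false

namespace CfsgLib.J4Large

/-- The order of the fourth Janko group. -/
def orderJ4 : ℕ := 86775571046077562880

/-- The large primes. -/
def bigs : List ℕ := [23, 29, 31, 37, 43]

/-- The possible values of `|C(U)| / r`, given the primes other than `r`. -/
def cands : List ℕ → List ℕ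
  | [] => [1, 11, 121, 1331]
  | q :: L => cands L ++ (cands L).map (q * ·)

theorem mem_cands_aux {n : ℕ} (hn : n = 11 ^ 3) :
    ∀ L : List ℕ, (∀ q ∈ L, q.Prime) → ∀ c, c ∣ L.prod * n → c ∈ cands L := by
  intro L
  induction L with
  | nil =>
    intro _ c h
    rw [List.prod_nil, one_mul, hn] at h
    obtain ⟨k, hk, hc⟩ := (Nat.dvd_prime_pow (show Nat.Prime 11 by norm_num)).1 h
    rw [hc, cands]
    interval_cases k <;> norm_num
  | cons q L ih =>
    intro hp c h
    have ih' := ih fun x hx => hp x (List.mem_cons_of_mem _ hx)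
    rw [List.prod_cons, mul_assoc] at h
    rw [cands, List.mem_append]
    by_cases hq : q ∣ c
    · obtain ⟨d, rfl⟩ := hq
      exact Or.inr (List.mem_map.2 ⟨d, ih' d (Nat.dvd_of_mul_dvd_mul_left (hp q (List.mem_cons_self ..)).pos h), rfl⟩)
    · exact Or.inl (ih' c ((((hp q (List.mem_cons_self ..)).coprime_iff_not_dvd.2 hq).symm).dvd_of_dvd_mul_left h))

theorem mem_cands (L : List ℕ) (hp : ∀ q ∈ L, q.Prime) (c : ℕ) (h : c ∣ L.prod * 1331) : c ∈ cands L :=
  mem_cands_aux (by norm_num) L hp c h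

/-- The conditions on `c = |C(U)| / r` and `e = |N(U) : C(U)|` at the prime `r`. -/
def good (r c e : ℕ) : Bool :=
  decide (e ∣ r - 1) && decide (r * c * e ∣ orderJ4) && decide (orderJ4 / (r * c * e) % r = 1) &&
    (decide (r ≠ 31) || decide (5 ∣ e)) && (decide (r ≠ 23) || decide (11 ∣ e))

/-- The possibilities at the prime `r`. -/
def opts (r : ℕ) : List (ℕ × ℕ) :=
  (cands (bigs.filter (· ≠ r))).flatMap fun c => ((List.range r).filter fun e => good r c e).map fun e => (c, e)

theorem mem_opts {r c e : ℕ} (hr : r ∈ bigs) (hc : c ∣ (bigs.filter (· ≠ r)).prod * 1331)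
    (h : good r c e = true) : (c, e) ∈ opts r := by
  refine List.mem_flatMap.2 ⟨c, mem_cands _ (fun q hq => ?_) c hc, List.mem_map.2 ⟨e,
    List.mem_filter.2 ⟨List.mem_range.2 ?_, h⟩, rfl⟩⟩
  · have hq' := List.mem_of_mem_filter hq
    simp only [bigs, List.mem_cons, List.not_mem_nil, or_false] at hq'
    rcases hq' with rfl | rfl | rfl | rfl | rfl <;> norm_num
  · simp only [good, Bool.and_eq_true, decide_eq_true_eq] at h
    have hr' : 2 ≤ r := by
      simp only [bigs, List.mem_cons, List.not_mem_nil, or_false] at hr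
      omega
    have := Nat.le_of_dvd (by omega) h.1.1.1.1
    omega

/-- Compatibility of the possibilities at two primes. -/
def compat (r : ℕ) (x : ℕ × ℕ) (q : ℕ) (y : ℕ × ℕ) : Bool :=
  decide (q ∣ x.1 ↔ r ∣ y.1) && (decide (¬ q ∣ x.1) || (decide (x.2 ∣ y.2 * (q * y.1)) && decide (y.2 ∣ x.2 * (r * x.1))))

/-- Discard the possibilities without a compatible partner at another prime. -/
def prune (O : List (ℕ × List (ℕ × ℕ))) : List (ℕ × List (ℕ × ℕ)) :=
  O.map fun a => (a.1, a.2.filter fun x => O.all fun b => decide (b.1 = a.1) || b.2.any fun y => compat a.1 x b.1 y)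

/-- The values `f` occur among the possibilities. -/
def Fits (f : ℕ → ℕ × ℕ) (O : List (ℕ × List (ℕ × ℕ))) : Prop :=
  ∀ a ∈ O, a.1 ∈ bigs ∧ f a.1 ∈ a.2

theorem fits_prune {f : ℕ → ℕ × ℕ} {O : List (ℕ × List (ℕ × ℕ))} (h : Fits f O)
    (hc : ∀ r ∈ bigs, ∀ q ∈ bigs, q ≠ r → compat r (f r) q (f q) = true) : Fits f (prune O) := by
  intro a ha
  obtain ⟨b, hb, rfl⟩ := List.mem_map.1 ha
  refine ⟨(h b hb).1, List.mem_filter.2 ⟨(h b hb).2, List.all_eq_true.2 fun d hd => ?_⟩⟩
  rw [Bool.or_eq_true, decide_eq_true_eq, List.any_eq_true]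
  by_cases he : d.1 = b.1
  · exact Or.inl he
  · exact Or.inr ⟨_, (h d hd).2, hc _ (h b hb).1 _ (h d hd).1 he⟩

/-- All possibilities. -/
def start : List (ℕ × List (ℕ × ℕ)) := bigs.map fun r => (r, opts r)

theorem prune_start : prune (prune start) =
    [(23, [(1, 22)]), (29, [(1, 28)]), (31, [(1, 10), (11, 15)]), (37, [(1, 12)]), (43, [(1, 14)])] := by
  decide +kernel

/-- The values are determined, with one exception. -/
theorem values {f : ℕ → ℕ × ℕ} (hgood : ∀ r ∈ bigs, (f r).1 ∣ (bigs.filter (· ≠ r)).prod * 1331 ∧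
      good r (f r).1 (f r).2 = true)
    (hc : ∀ r ∈ bigs, ∀ q ∈ bigs, q ≠ r → compat r (f r) q (f q) = true) :
    f 23 = (1, 22) ∧ f 29 = (1, 28) ∧ (f 31 = (1, 10) ∨ f 31 = (11, 15)) ∧ f 37 = (1, 12) ∧ f 43 = (1, 14) := by
  have h0 : Fits f start := by
    intro a ha
    obtain ⟨r, hr, rfl⟩ := List.mem_map.1 ha
    exact ⟨hr, mem_opts hr (hgood r hr).1 (hgood r hr).2⟩
  have h2 := fits_prune (fits_prune h0 hc) hc
  rw [prune_start] at h2
  simp only [Fits, List.mem_cons, List.not_mem_nil, or_false, forall_eq_or_imp, forall_eq] at h2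
  tauto

end CfsgLib.J4Large
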