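import Cfsg.Agent.J4Large.Aut22
import Cfsg.Agent.J4Large.Arith
import Cfsg.Agent.J4Seven.HSide

/-!
Centralisers of elements of small prime order in a group of Janko-four type, as far as the large primes and the
elements of order 11 need them.
-/

set_option autoImplicit false
set_option linter.style.haveILetI false
set_option linter.unusedSectionVars false

namespace CfsgLib.J4Large

open Cfsg CfsgLib.J4Local Subgroup

variable {G : Type*} [Group G] [Finite G] {z : G} {P : Subgroup G}

/-- What is used about a group of Janko-four type. -/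
structure Inputs (z : G) (P : Subgroup G) : Prop where
  type : IsOfJankoFourTypeWith z P
  normP : normalizer (P : Set G) ≤ cH z
  three : ∀ x y : G, orderOf x = 3 → orderOf y = 3 → IsConj x y
  order : Nat.card G = orderJ4
  five : ∀ Q : Subgroup G, Q ≤ cH z → Nat.card Q = 5 → Nat.card (normalizer (Q : Set G)) = 2 ^ 8 * 3 * 5 * 7
  seven : ∀ Q : Subgroup G, Q ≤ cH z → Nat.card Q = 7 → Nat.card (normalizer (Q : Set G)) = 2 ^ 3 * 3 ^ 2 * 5 * 7
  split : ∀ t : G, orderOf t = 2 → ¬ IsConj z t → ∃ V K : Subgroup G,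
    centralizer ({t} : Set G) ≤ normalizer (V : Set G) ∧ IsElementaryAbelian 2 V ∧ Nat.card V = 2 ^ 11 ∧
    centralizer (V : Set G) ≤ V ∧ K ⊓ V = ⊥ ∧ K ⊔ V = centralizer ({t} : Set G) ∧
    Nonempty (K ≃* MulAut ↥Spor.M22)
  m24 : ∃ K : Subgroup G, Spor.IsoM24 K
  l52 : ∃ K : Subgroup G, Nat.card K = 9999360

theorem map_centralizer (m a : G) :
    (centralizer ({a} : Set G)).map (MulAut.conj m).toMonoidHom = centralizer ({m * a * m⁻¹} : Set G) := by
  ext g
  rw [Subgroup.mem_map_equiv, mem_centralizer_singleton_iff, mem_centralizer_singleton_iff, MulAut.conj_symm_apply]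
  constructor <;> intro h
  · calc g * (m * a * m⁻¹) = m * (m⁻¹ * g * m * a) * m⁻¹ := by group
      _ = m * (a * (m⁻¹ * g * m)) * m⁻¹ := by rw [h]
      _ = m * a * m⁻¹ * g := by group
  · calc m⁻¹ * g * m * a = m⁻¹ * (g * (m * a * m⁻¹)) * m := by group
      _ = m⁻¹ * (m * a * m⁻¹ * g) * m := by rw [h]
      _ = a * (m⁻¹ * g * m) := by group

theorem card_cent_conj (m a : G) :
    Nat.card (centralizer ({m * a * m⁻¹} : Set G)) = Nat.card (centralizer ({a} : Set G)) := by
  rw [← map_centralizer, Subgroup.card_map_of_injective (MulAut.conj m).injective]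

theorem orderOf_conj_eq (m a : G) : orderOf (m * a * m⁻¹) = orderOf a := CfsgLib.J4Seven.orderOf_conj7 m a

theorem cent_zpowers (g : G) : centralizer ((zpowers g : Subgroup G) : Set G) = centralizer ({g} : Set G) := by
  rw [zpowers_eq_closure, centralizer_closure]

/-- A Sylow subgroup at a prime dividing the order exactly once. -/
theorem card_sylow {r : ℕ} [Fact r.Prime] (U : Sylow r G) (h1 : r ∣ Nat.card G) (h2 : ¬ r ^ 2 ∣ Nat.card G) :
    Nat.card (U : Subgroup G) = r := by
  have hne : Nat.card G ≠ 0 := Nat.card_pos.ne'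
  have hr : r.Prime := Fact.out
  have ha := (hr.pow_dvd_iff_le_factorization hne (k := 1)).1 (by rwa [pow_one])
  have hb : ¬ 2 ≤ (Nat.card G).factorization r := fun h => h2 ((hr.pow_dvd_iff_le_factorization hne).2 h)
  rw [U.card_eq_multiplicity, show (Nat.card G).factorization r = 1 by omega, pow_one]

/-- Conjugates of the cyclic subgroups of order 5 or 7. -/
theorem cent_dvd_norm {p n : ℕ} [Fact p.Prime] (h1 : p ∣ Nat.card G) (h2 : ¬ p ^ 2 ∣ Nat.card G)
    (hH : p ∣ Nat.card (cH z))
    (hn : ∀ Q : Subgroup G, Q ≤ cH z → Nat.card Q = p → Nat.card (normalizer (Q : Set G)) = n) {g : G}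
    (hg : orderOf g = p) : Nat.card (centralizer ({g} : Set G)) ∣ n := by
  obtain ⟨q, hq⟩ := exists_prime_orderOf_dvd_card' (G := cH z) p hH
  set Q := zpowers (q : G) with hQ
  have hQc : Nat.card Q = p := by rw [Nat.card_zpowers, Subgroup.orderOf_coe, hq]
  have hS : ∀ R : Subgroup G, Nat.card R = p → ∃ S : Sylow p G, (S : Subgroup G) = R := fun R hR => by
    obtain ⟨S, hS⟩ := (IsPGroup.of_card (p := p) (G := R) (n := 1) (by rw [hR, pow_one])).exists_le_sylow
    exact ⟨S, (eq_of_le_of_card_ge hS (by rw [hR, card_sylow S h1 h2])).symm⟩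
  obtain ⟨S, hSQ⟩ := hS Q hQc
  obtain ⟨T, hTg⟩ := hS (zpowers g) (by rw [Nat.card_zpowers, hg])
  have hN : ∀ R : Sylow p G, Nat.card (normalizer ((R : Subgroup G) : Set G)) = n := by
    intro R
    have e1 : Nat.card (Sylow p G) = (normalizer ((R : Subgroup G) : Set G)).index := R.card_eq_index_normalizer
    have e2 : Nat.card (Sylow p G) = (normalizer ((S : Subgroup G) : Set G)).index := S.card_eq_index_normalizer
    have h3 := (normalizer ((R : Subgroup G) : Set G)).card_mul_index
    have h4 := (normalizer ((S : Subgroup G) : Set G)).card_mul_index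
    rw [← e1] at h3
    rw [← e2, hSQ, hn Q (zpowers_le.2 q.2) hQc] at h4
    have hpos : 0 < Nat.card (Sylow p G) := Nat.card_pos
    exact Nat.eq_of_mul_eq_mul_right hpos (h3.trans h4.symm)
  rw [← cent_zpowers, ← hN T, hTg]
  exact Subgroup.card_dvd_of_le (Subgroup.centralizer_le_normalizer _)

variable (hI : Inputs z P)

include hI

theorem cent_five {g : G} (hg : orderOf g = 5) : Nat.card (centralizer ({g} : Set G)) ∣ 26880 := by
  haveI : Fact (Nat.Prime 5) := ⟨by norm_num⟩
  exact cent_dvd_norm (by rw [hI.order]; norm_num [orderJ4]) (by rw [hI.order]; norm_num [orderJ4])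
    (by rw [CfsgLib.J4Seven.card_H hI.type]; norm_num) (fun Q h1 h2 => by rw [hI.five Q h1 h2]; norm_num) hg

theorem cent_seven {g : G} (hg : orderOf g = 7) : Nat.card (centralizer ({g} : Set G)) ∣ 2520 := by
  haveI : Fact (Nat.Prime 7) := ⟨by norm_num⟩
  exact cent_dvd_norm (by rw [hI.order]; norm_num [orderJ4]) (by rw [hI.order]; norm_num [orderJ4])
    (by rw [CfsgLib.J4Seven.card_H hI.type]; norm_num) (fun Q h1 h2 => by rw [hI.seven Q h1 h2]; norm_num) hg

/-- An element of order three is conjugate to a generator of `P`, whose centraliser is `C_H(P)`. -/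
theorem exists_conj_P {g : G} (hg : orderOf g = 3) :
    ∃ m : G, centralizer ({m * g * m⁻¹} : Set G) = cC z P := by
  haveI : Fact (Nat.Prime 3) := ⟨Nat.prime_three⟩
  obtain ⟨p, hp⟩ := exists_prime_orderOf_dvd_card' (G := P) 3 (by rw [card_P hI.type])
  obtain ⟨m, hm⟩ := isConj_iff.1 (hI.three g (p : G) hg (by rw [Subgroup.orderOf_coe, hp]))
  have hzp : zpowers (p : G) = P := eq_of_le_of_card_ge (zpowers_le.2 p.2)
    (by rw [card_P hI.type, Nat.card_zpowers, Subgroup.orderOf_coe, hp])
  refine ⟨m, ?_⟩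
  rw [hm, ← cent_zpowers, hzp]
  exact le_antisymm (le_inf ((Subgroup.centralizer_le_normalizer _).trans hI.normP) le_rfl) inf_le_right

theorem cent_three {g : G} (hg : orderOf g = 3) : Nat.card (centralizer ({g} : Set G)) = 6 * 443520 := by
  obtain ⟨m, hm⟩ := exists_conj_P hI hg
  rw [← card_cent_conj m, hm, card_C hI.type]

theorem cent_two {t : G} (ht : orderOf t = 2) : Nat.card (centralizer ({t} : Set G)) ∣ 887040 * (3 * 2 ^ 13) := by
  by_cases hz : IsConj z t
  · obtain ⟨m, rfl⟩ := isConj_iff.1 hz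
    rw [card_cent_conj]
    exact (CfsgLib.J4Seven.card_H hI.type).dvd
  · obtain ⟨V, K, hCN, -, hV, -, hKV, hKVs, ⟨e⟩⟩ := hI.split t ht hz
    rw [← hKVs, CfsgLib.Solvable.card_sup_of_disjoint (le_sup_left.trans (hKVs.le.trans hCN)) hKV,
      Nat.card_congr e.toEquiv, hV, card_aut_m22]
    norm_num

/-- The large primes do not divide centralisers of elements of order 2, 3, 5, 7. -/
theorem no_big {p r : ℕ} (hp : p = 2 ∨ p = 3 ∨ p = 5 ∨ p = 7) (hr : r ∈ bigs) {g : G} (hg : orderOf g = p) :
    ¬ r ∣ Nat.card (centralizer ({g} : Set G)) := by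
  intro h
  simp only [bigs, List.mem_cons, List.not_mem_nil, or_false] at hr
  rcases hp with rfl | rfl | rfl | rfl
  · have h' := h.trans (cent_two hI hg)
    rcases hr with rfl | rfl | rfl | rfl | rfl <;> norm_num at h'
  · rw [cent_three hI hg] at h
    rcases hr with rfl | rfl | rfl | rfl | rfl <;> norm_num at h
  · have h' := h.trans (cent_five hI hg)
    rcases hr with rfl | rfl | rfl | rfl | rfl <;> norm_num at h'
  · have h' := h.trans (cent_seven hI hg)
    rcases hr with rfl | rfl | rfl | rfl | rfl <;> norm_num at h'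

theorem no_five_seven {p : ℕ} (hp : p = 5 ∨ p = 7) {g : G} (hg : orderOf g = p) :
    ¬ 11 ∣ Nat.card (centralizer ({g} : Set G)) := by
  intro h
  rcases hp with rfl | rfl
  · have h' := h.trans (cent_five hI hg); norm_num at h'
  · have h' := h.trans (cent_seven hI hg); norm_num at h'

omit hI in
/-- An element of order 11 acting nontrivially on a subgroup of order `2^13` or `2^11` fixes at most 8 elements. -/
theorem card_fix_le {x : G} (hx : orderOf x = 11) {X : Subgroup G} {n : ℕ} (hn : n = 11 ∨ n = 13)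
    (hX : Nat.card X = 2 ^ n) (hxN : x ∈ normalizer (X : Set G)) (hne : ¬ X ≤ centralizer ({x} : Set G)) :
    Nat.card ↥(X ⊓ centralizer ({x} : Set G)) ≤ 8 := by
  haveI : Fact (Nat.Prime 11) := ⟨by norm_num⟩
  set A := X ⊓ centralizer ({x} : Set G) with hA
  obtain ⟨k, hk, hk'⟩ := (Nat.dvd_prime_pow Nat.prime_two).1 (hX ▸ Subgroup.card_dvd_of_le (inf_le_left : A ≤ X))
  have hkn : k ≠ n := fun e => hne ((eq_of_le_of_card_ge (inf_le_left : A ≤ X) (by rw [hX, hk', e])).ge.trans
    inf_le_right)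
  have hmod := modEq_ncard_fixed (q := 11) (g := x) (by rw [← hx, pow_orderOf_eq_one]) (X : Set G)
    (fun v hv => (Subgroup.mem_normalizer_iff.1 hxN v).1 hv)
  have hfix : {s | s ∈ (X : Set G) ∧ x * s = s * x} = (A : Set G) := by
    ext s
    simp only [Set.mem_setOf_eq, SetLike.mem_coe, hA, Subgroup.mem_inf, mem_centralizer_singleton_iff]
    exact and_congr_right fun _ => eq_comm
  rw [hfix, ← Nat.card_coe_set_eq, ← Nat.card_coe_set_eq] at hmod
  have hmod' : Nat.card X % 11 = Nat.card A % 11 := hmod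
  rw [hX, hk'] at hmod'
  rw [hk']
  rcases hn with rfl | rfl <;> interval_cases k <;> first | (norm_num at hmod'; done) | (norm_num; done) | omega

omit hI in
/-- A 2-group centralising an element of order 11 lies in a kernel with quotient `Aut M22`. -/
theorem two_group_le {W V : Subgroup G} [(V.subgroupOf W).Normal]
    (e : ↥W ⧸ V.subgroupOf W ≃* MulAut ↥Spor.M22) (hV : ¬ 11 ∣ Nat.card V) {x : G} (hxW : x ∈ W)
    (hx : orderOf x = 11) {T : Subgroup G} (hTW : T ≤ W) (hT : IsPGroup 2 T)
    (hTx : T ≤ centralizer ({x} : Set G)) : T ≤ V := by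
  haveI : Fact (Nat.Prime 11) := ⟨by norm_num⟩
  haveI : Fact (Nat.Prime 2) := ⟨Nat.prime_two⟩
  let f : ↥W →* MulAut ↥Spor.M22 := e.toMonoidHom.comp (QuotientGroup.mk' (V.subgroupOf W))
  have hker : ∀ w : ↥W, f w = 1 ↔ (w : G) ∈ V := fun w => by
    show e (QuotientGroup.mk' (V.subgroupOf W) w) = 1 ↔ _
    rw [MulEquiv.map_eq_one_iff, QuotientGroup.mk'_apply, QuotientGroup.eq_one_iff, Subgroup.mem_subgroupOf]
  have ha : orderOf (f ⟨x, hxW⟩) = 11 := by
    refine orderOf_eq_prime ?_ fun h => hV ?_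
    · rw [← map_pow, show (⟨x, hxW⟩ : ↥W) ^ 11 = 1 from Subtype.ext (by
        rw [SubgroupClass.coe_pow, ← hx, pow_orderOf_eq_one]; rfl), map_one]
    · exact hx ▸ Subgroup.orderOf_dvd_natCard _ ((hker _).1 h)
  intro g hg
  by_contra hgV
  have hb1 : f ⟨g, hTW hg⟩ ≠ 1 := fun h => hgV ((hker _).1 h)
  obtain ⟨j, hj⟩ := hT ⟨g, hg⟩
  have hg2 : g ^ 2 ^ j = 1 := congrArg Subtype.val hj
  have hpow : (f ⟨g, hTW hg⟩) ^ 2 ^ j = 1 := by
    rw [← map_pow, show (⟨g, hTW hg⟩ : ↥W) ^ 2 ^ j = 1 from Subtype.ext (by rw [SubgroupClass.coe_pow, hg2]; rfl),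
      map_one]
  set b := f ⟨g, hTW hg⟩
  obtain ⟨i, -, hi⟩ := (Nat.dvd_prime_pow Nat.prime_two).1 (orderOf_dvd_of_pow_eq_one hpow)
  have hi0 : i ≠ 0 := fun h => hb1 (orderOf_eq_one_iff.1 (by rw [hi, h, pow_zero]))
  have hb : orderOf (b ^ 2 ^ (i - 1)) = 2 := by
    refine orderOf_eq_prime (by rw [← pow_mul, ← pow_succ, show i - 1 + 1 = i by omega, ← hi, pow_orderOf_eq_one])
      fun h => ?_
    have := Nat.le_of_dvd (Nat.two_pow_pos _) (orderOf_dvd_of_pow_eq_one h)
    rw [hi] at this
    have := (Nat.pow_le_pow_iff_right (by norm_num : 1 < 2)).1 this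
    omega
  refine no_invol_eleven_aut ha hb ((Commute.pow_right ?_ _).eq)
  show f ⟨x, hxW⟩ * f ⟨g, hTW hg⟩ = f ⟨g, hTW hg⟩ * f ⟨x, hxW⟩
  rw [← map_mul, ← map_mul]
  exact congrArg f (Subtype.ext (mem_centralizer_singleton_iff.1 (hTx hg)).symm)

/-- No subgroup of order 16 centralises an element of order 11. -/
theorem no_sixteen {x : G} (hx : orderOf x = 11) : ¬ 16 ∣ Nat.card (centralizer ({x} : Set G)) := by
  haveI : Fact (Nat.Prime 2) := ⟨Nat.prime_two⟩
  intro h
  obtain ⟨T, hT⟩ := Sylow.exists_subgroup_card_pow_prime 2 (G := centralizer ({x} : Set G)) (n := 4) h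
  set T' : Subgroup G := T.map (centralizer ({x} : Set G)).subtype
  have hTc : Nat.card T' = 16 := by
    rw [Subgroup.card_map_of_injective Subtype.val_injective, hT]; norm_num
  have hTp : IsPGroup 2 T' := IsPGroup.of_card (n := 4) (by rw [hTc]; norm_num)
  have hTx : T' ≤ centralizer ({x} : Set G) := Subgroup.map_subtype_le _
  haveI : Nontrivial T' := Finite.one_lt_card_iff_nontrivial.1 (by rw [hTc]; norm_num)
  have hctr : Nontrivial (center T') := hTp.center_nontrivial
  obtain ⟨i, hi⟩ := exists_prime_orderOf_dvd_card' (G := center T') 2 (by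
    obtain ⟨k, hk⟩ := IsPGroup.iff_card.1 (hTp.to_subgroup (center T'))
    have := Finite.one_lt_card_iff_nontrivial.2 hctr
    rcases k with _ | k
    · omega
    · exact ⟨2 ^ k, by rw [hk, pow_succ, mul_comm]⟩)
  set t : G := ((i : T') : G)
  have ht : orderOf t = 2 := by simp only [t, Subgroup.orderOf_coe, hi]
  have hTt : T' ≤ centralizer ({t} : Set G) := fun g hg => mem_centralizer_singleton_iff.2
    (congrArg Subtype.val (Subgroup.mem_center_iff.1 i.2 ⟨g, hg⟩))
  have hxt : x ∈ centralizer ({t} : Set G) :=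
    mem_centralizer_singleton_iff.2 (mem_centralizer_singleton_iff.1 (hTx (i : T').2)).symm
  by_cases hz : IsConj z t
  · obtain ⟨m, hm⟩ := isConj_iff.1 hz
    set x' := m⁻¹ * x * m⁻¹⁻¹ with hx'def
    set S := T'.map (MulAut.conj m⁻¹).toMonoidHom
    have hx' : orderOf x' = 11 := by rw [hx'def, orderOf_conj_eq, hx]
    have hzt : m⁻¹ * t * m⁻¹⁻¹ = z := by rw [← hm]; group
    have hxH : x' ∈ cH z := by
      show x' ∈ centralizer ({z} : Set G)
      rw [← hzt, ← map_centralizer]
      exact ⟨x, hxt, rfl⟩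
    have hSH : S ≤ cH z := by
      show S ≤ centralizer ({z} : Set G)
      rw [← hzt, ← map_centralizer]
      exact Subgroup.map_mono hTt
    have hSx : S ≤ centralizer ({x'} : Set G) := by
      rw [hx'def, ← map_centralizer]
      exact Subgroup.map_mono hTx
    have hSc : Nat.card S = 16 := by rw [Subgroup.card_map_of_injective (MulAut.conj m⁻¹).injective, hTc]
    obtain ⟨N, hEN, hNH, -, hcardN, ⟨hnor, ⟨e⟩⟩, -⟩ := hI.type.2.2.2.2.1
    haveI := hnor
    have hcN : Nat.card N = 3 * 2 ^ 13 := by rw [hcardN, card_E hI.type]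
    have hSN : S ≤ N := two_group_le e (by rw [hcN]; norm_num) hxH hx' hSH
      (IsPGroup.of_card (n := 4) (by rw [hSc]; norm_num)) hSx
    have hSE : S ≤ cE z := by
      have hn : S ≤ normalizer (cE z : Set G) := (hSN.trans hNH).trans H_le_normalizer_E
      have h1 := CfsgLib.Solvable.card_sup_mul_card_inf hn
      have h2 : Nat.card ↥(S ⊔ cE z) ∣ 3 * 2 ^ 13 := hcN ▸ Subgroup.card_dvd_of_le (sup_le hSN hEN)
      obtain ⟨k, hk⟩ := IsPGroup.iff_card.1 ((IsPGroup.of_card (p := 2) (G := cE z) (card_E hI.type)).to_subgroup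
        ((S ⊓ cE z).subgroupOf (cE z)))
      rw [Nat.card_congr (Subgroup.subgroupOfEquivOfLe inf_le_right).toEquiv] at hk
      have hS : Nat.card ↥(S ⊓ cE z) ∣ 16 := hSc ▸ Subgroup.card_dvd_of_le inf_le_left
      rw [hSc, card_E hI.type] at h1
      refine inf_eq_left.1 (eq_of_le_of_card_ge inf_le_left ?_)
      rw [hSc]
      have hk4 : k ≤ 4 := by
        rw [hk] at hS
        exact (Nat.pow_le_pow_iff_right (by norm_num : 1 < 2)).1 (Nat.le_of_dvd (by norm_num) hS)
      rw [hk] at h1 ⊢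
      have h4 : 16 * 2 ^ 13 ∣ 3 * 2 ^ 13 * 2 ^ k := h1 ▸ mul_dvd_mul_right h2 _
      interval_cases k <;> first | (norm_num; done) | (norm_num at h4)
    have h8 := card_fix_le hx' (Or.inr rfl) (card_E hI.type) (H_le_normalizer_E hxH) fun hle => by
      have hxE : x' ∈ cE z := centralizer_E_le hI.type ⟨hxH, mem_centralizer_iff.2 fun y hy =>
        mem_centralizer_singleton_iff.1 (hle hy)⟩
      have := Subgroup.orderOf_dvd_natCard _ hxE
      rw [hx', card_E hI.type] at this
      norm_num at this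
    have := Subgroup.card_le_of_le (le_inf hSE hSx)
    omega
  · obtain ⟨V, K, hCN, -, hVc, hCV, hKV, hKVs, ⟨e⟩⟩ := hI.split t ht hz
    have hVW : V ≤ centralizer ({t} : Set G) := le_sup_right.trans hKVs.le
    have hKW : K ≤ centralizer ({t} : Set G) := le_sup_left.trans hKVs.le
    haveI : (V.subgroupOf (centralizer ({t} : Set G))).Normal :=
      Subgroup.normal_subgroupOf_of_le_normalizer hCN
    have hcomp : IsComplement' (K.subgroupOf (centralizer ({t} : Set G))) (V.subgroupOf (centralizer ({t} : Set G))) := by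
      refine isComplement'_of_card_mul_and_disjoint ?_ ?_
      · rw [Nat.card_congr (subgroupOfEquivOfLe hKW).toEquiv, Nat.card_congr (subgroupOfEquivOfLe hVW).toEquiv,
          ← CfsgLib.Solvable.card_sup_of_disjoint (hKW.trans hCN) hKV, hKVs]
      · rw [disjoint_iff, eq_bot_iff]
        intro a ha
        have h' : (a : G) ∈ K ⊓ V := ⟨ha.1, ha.2⟩
        rw [hKV, Subgroup.mem_bot] at h'
        exact Subtype.ext h'
    have hTV : T' ≤ V := two_group_le (hcomp.QuotientMulEquiv.trans ((subgroupOfEquivOfLe hKW).trans e))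
      (by rw [hVc]; norm_num) hxt hx hTt hTp hTx
    have h8 := card_fix_le hx (Or.inl rfl) hVc (hCN hxt) fun hle => by
      have hxV : x ∈ V := hCV (mem_centralizer_iff.2 fun y hy => mem_centralizer_singleton_iff.1 (hle hy))
      have := Subgroup.orderOf_dvd_natCard _ hxV
      rw [hx, hVc] at this
      norm_num at this
    have := Subgroup.card_le_of_le (le_inf hTV hTx)
    omega

/-- No subgroup of order 9 centralises an element of order 11. -/
theorem no_nine {x : G} (hx : orderOf x = 11) : ¬ 9 ∣ Nat.card (centralizer ({x} : Set G)) := by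
  haveI : Fact (Nat.Prime 3) := ⟨Nat.prime_three⟩
  haveI : Fact (Nat.Prime 11) := ⟨by norm_num⟩
  intro h
  obtain ⟨T, hT⟩ := Sylow.exists_subgroup_card_pow_prime 3 (G := centralizer ({x} : Set G)) (n := 2) h
  set T' : Subgroup G := T.map (centralizer ({x} : Set G)).subtype
  have hTc : Nat.card T' = 9 := by
    rw [Subgroup.card_map_of_injective Subtype.val_injective, hT]; norm_num
  have hTx : T' ≤ centralizer ({x} : Set G) := Subgroup.map_subtype_le _
  have hcomm : ∀ a b : T', a * b = b * a :=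
    IsPGroup.commutative_of_card_eq_prime_sq (p := 3) (by rw [hTc]; norm_num)
  obtain ⟨g, hg⟩ := exists_prime_orderOf_dvd_card' (G := T') 3 (by rw [hTc]; norm_num)
  obtain ⟨m, hm⟩ := exists_conj_P hI (g := (g : G)) (by rw [Subgroup.orderOf_coe, hg])
  set x' := m * x * m⁻¹ with hx'def
  have hx' : orderOf x' = 11 := by rw [hx'def, orderOf_conj_eq, hx]
  set S := T'.map (MulAut.conj m).toMonoidHom
  have hxC : x' ∈ cC z P := by
    rw [← hm, ← map_centralizer]
    exact ⟨x, mem_centralizer_singleton_iff.2 (mem_centralizer_singleton_iff.1 (hTx g.2)).symm, rfl⟩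
  have hSC : S ≤ cC z P := by
    rw [← hm, ← map_centralizer]
    exact Subgroup.map_mono fun a ha => mem_centralizer_singleton_iff.2 (congrArg Subtype.val (hcomm ⟨a, ha⟩ g))
  have hSx : S ≤ centralizer ({x'} : Set G) := by
    rw [hx'def, ← map_centralizer]
    exact Subgroup.map_mono hTx
  have hSc : Nat.card S = 9 := by rw [Subgroup.card_map_of_injective (MulAut.conj m).injective, hTc]
  obtain ⟨f, -, hker⟩ := exists_hom_C hI.type
  have hk6 : Nat.card f.ker = 6 := by
    rw [hker, Nat.card_congr (Subgroup.subgroupOfEquivOfLe (K_le_C hI.type)).toEquiv, card_K hI.type]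
  have ha : orderOf (f ⟨x', hxC⟩) = 11 := by
    refine orderOf_eq_prime ?_ fun h => ?_
    · rw [← map_pow, show (⟨x', hxC⟩ : ↥(cC z P)) ^ 11 = 1 from Subtype.ext (by
        rw [SubgroupClass.coe_pow, ← hx', pow_orderOf_eq_one]; rfl), map_one]
    · have := Subgroup.orderOf_dvd_natCard _ (MonoidHom.mem_ker.2 h)
      rw [Subgroup.orderOf_mk, hx', hk6] at this
      norm_num at this
  have hsub : S.subgroupOf (cC z P) ≤ f.ker := by
    intro s hs
    rw [MonoidHom.mem_ker]
    have h1 : f s ∈ centralizer ({f ⟨x', hxC⟩} : Set ↥Spor.M22) := mem_centralizer_singleton_iff.2 (by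
      rw [← map_mul, ← map_mul]
      exact congrArg f (Subtype.ext (mem_centralizer_singleton_iff.1 (hSx hs))))
    have h2 := Subgroup.orderOf_dvd_natCard _ h1
    rw [CfsgLib.J4M22.card_centralizer_eleven ha] at h2
    have h3 := (orderOf_map_dvd f s).trans (Subgroup.orderOf_dvd_natCard _ hs)
    rw [Nat.card_congr (Subgroup.subgroupOfEquivOfLe hSC).toEquiv, hSc] at h3
    exact orderOf_eq_one_iff.1 (Nat.eq_one_of_dvd_coprimes (by norm_num : Nat.Coprime 9 11) h3 h2)
  have := Subgroup.card_dvd_of_le hsub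
  rw [Nat.card_congr (Subgroup.subgroupOfEquivOfLe hSC).toEquiv, hSc, hk6] at this
  norm_num at this

end CfsgLib.J4Large
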