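import Cfsg.Agent.J4Seven.Aut22
import Cfsg.Agent.Golay.IndexPoint
import Cfsg.Agent.Golay.InvCount

/-!
Elements of order 11 and 23 in the Mathieu groups: no involution of `Aut M22` commutes with an element of
order 11, and no element of order 11 of `M24` commutes with one of order 23.
-/

set_option autoImplicit false
set_option linter.style.haveILetI false

namespace CfsgLib.J4Large

open Cfsg CfsgLib.Golay CfsgLib.Golay.Cert CfsgLib.J4M22 CfsgLib.J4Seven Subgroup

theorem commute_mem_fixed {u v : M24} (h : v * u = u * v) {p : GolayPt}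
    (hp : p ∈ fixedPts (v : Equiv.Perm GolayPt)) :
    (u : Equiv.Perm GolayPt) p ∈ fixedPts (v : Equiv.Perm GolayPt) := by
  simp only [fixedPts, Finset.mem_filter, Finset.mem_univ, true_and] at hp ⊢
  have := congrArg (fun z : M24 => (z : Equiv.Perm GolayPt) p) h
  simp only [Subgroup.coe_mul, Equiv.Perm.mul_apply, hp] at this
  exact this

theorem no_invol_eleven_M24 {t u : M24} (ht : orderOf t = 2) (hu : orderOf u = 11) : t * u ≠ u * t := by
  intro h
  obtain ⟨k, ⟨-, -, h8⟩ | ⟨-, h0⟩⟩ := two_cases ht
  · have h11 := card_inv_mod (by norm_num : Nat.Prime 11) (pow_coe_eq_one (hu ▸ pow_orderOf_eq_one u))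
      (fixedPts (t : Equiv.Perm GolayPt)) fun p hp => commute_mem_fixed h hp
    have hle : ((fixedPts (t : Equiv.Perm GolayPt)).filter fun p => (u : Equiv.Perm GolayPt) p = p).card ≤ 2 := by
      rw [← fixed_eleven hu]
      exact Finset.card_le_card fun p hp => by
        simp only [Finset.mem_filter] at hp
        simp [fixedPts, hp.2]
    rw [h8] at h11
    omega
  · have h0' : ∀ p, (t : Equiv.Perm GolayPt) p ≠ p := fun p hp => by
      have : p ∈ fixedPts (t : Equiv.Perm GolayPt) := by simp [fixedPts, hp]
      rw [Finset.card_eq_zero.1 h0] at this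
      simp at this
    have hd := Subgroup.orderOf_dvd_natCard (x := u) _
      (mem_centralizer_singleton_iff.2 h.symm : u ∈ centralizer ({t} : Set M24))
    rw [hu, (fpf_centralizer ht h0').1] at hd
    norm_num at hd

/-- No element of order 11 commutes with an element of order 23. -/
theorem no_eleven_twentythree {u v : M24} (hu : orderOf u = 23) (hv : orderOf v = 11) : v * u ≠ u * v := by
  intro h
  have h23 : Nat.Prime 23 := by norm_num
  have hall := card_inv_mod h23 (pow_coe_eq_one (hu ▸ pow_orderOf_eq_one u)) Finset.univ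
    (fun p _ => Finset.mem_univ _)
  have hF := card_inv_mod h23 (pow_coe_eq_one (hu ▸ pow_orderOf_eq_one u))
    (fixedPts (v : Equiv.Perm GolayPt)) fun p hp => commute_mem_fixed h hp
  have hv' := card_inv_mod (by norm_num : Nat.Prime 11) (pow_coe_eq_one (hv ▸ pow_orderOf_eq_one v)) Finset.univ
    (fun p _ => Finset.mem_univ _)
  set A := Finset.univ.filter fun p => (u : Equiv.Perm GolayPt) p = p with hA
  set F := fixedPts (v : Equiv.Perm GolayPt) with hFdef
  set B := F.filter fun p => (u : Equiv.Perm GolayPt) p = p
  have hBA : B.card ≤ A.card := Finset.card_le_card fun p hp => by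
    simp only [B, A, Finset.mem_filter] at hp ⊢
    exact ⟨Finset.mem_univ _, hp.2⟩
  have hA24 : A.card ≠ 24 := by
    intro e
    have hall' : A = Finset.univ := Finset.eq_univ_of_card _ (by rw [e, card_golayPt])
    have : u = 1 := Subtype.ext (Equiv.ext fun p => by
      have := Finset.mem_univ p
      rw [← hall', hA, Finset.mem_filter] at this
      simpa using this.2)
    rw [this, orderOf_one] at hu
    norm_num at hu
  have hA' : A.card ≤ 24 := card_golayPt ▸ Finset.card_le_univ _
  have hF' : F.card ≤ 24 := card_golayPt ▸ Finset.card_le_univ _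
  rw [Finset.card_univ, card_golayPt] at hall hv'
  change 24 % 11 = F.card % 11 at hv'
  change 24 % 23 = A.card % 23 at hall
  change F.card % 23 = B.card % 23 at hF
  have hA1 : A.card = 1 := by omega
  have hB1 : B.card ≤ 1 := by omega
  have hF1 : F.card % 23 ≤ 1 := by rw [hF]; exact (Nat.mod_le _ _).trans hB1
  have hF24 : F.card = 24 := by
    generalize F.card = n at hF1 hv' hF'
    interval_cases n <;> omega
  have : v = 1 := Subtype.ext (Equiv.ext fun p => by
    have := Finset.mem_univ p
    rw [← Finset.eq_univ_of_card F (by rw [hF24, card_golayPt]), hFdef] at this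
    simpa [fixedPts] using this)
  rw [this, orderOf_one] at hv
  norm_num at hv

/-- No involution of the automorphism group commutes with an element of order 11. -/
theorem no_invol_eleven_aut {a b : MulAut M} (ha : orderOf a = 11) (hb : orderOf b = 2) : a * b ≠ b * a := by
  intro h
  have hidx : (Inn M).index = 2 := out_m22
  have h2 : a ^ 12 ∈ Inn M := by
    rw [show 12 = 2 * 6 by norm_num, pow_mul]
    exact pow_mem (Subgroup.sq_mem_of_index_two hidx a) 6
  rw [show a ^ 12 = a by rw [show 12 = 11 + 1 by norm_num, pow_succ, ← ha, pow_orderOf_eq_one, one_mul]] at h2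
  obtain ⟨x, rfl⟩ := h2
  have hbx : b x = x := J4M22.conj_injective (by rw [← conj_conjAut, ← h, mul_inv_cancel_right])
  obtain ⟨π, hπ, hc⟩ := exists_perm b
  set p : M24 := ⟨π, hπ⟩
  have hcomm : p * m22Incl x = m22Incl x * p := by
    refine Subtype.ext ?_
    show π * x.1 = x.1 * π
    have := hc x
    rw [hbx] at this
    exact eq_mul_inv_iff_mul_eq.1 this |>.symm
  have hx : orderOf (m22Incl x) = 11 := by
    rw [orderOf_injective _ m22Incl_injective, ← orderOf_conjAut x, ha]
  haveI : Finite M24 := Nat.finite_of_card_ne_zero (by rw [CfsgLib.Golay.card_M24]; norm_num)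
  have hiter : ∀ n : ℕ, ∀ y : M, ((b ^ n) y).1 = π ^ n * y.1 * (π ^ n)⁻¹ := by
    intro n
    induction n with
    | zero => intro y; simp
    | succ n ih =>
      intro y
      rw [pow_succ', MulAut.mul_apply, hc, ih, pow_succ']
      group
  have hb1 : b ^ orderOf p = 1 := MulEquiv.ext fun y => Subtype.ext (by
    rw [hiter, show π ^ orderOf p = 1 from congrArg Subtype.val (pow_orderOf_eq_one p)]
    simp)
  obtain ⟨k, hk⟩ := hb ▸ orderOf_dvd_of_pow_eq_one hb1
  have hpos : 0 < orderOf p := orderOf_pos p
  refine no_invol_eleven_M24 (t := p ^ k) (u := m22Incl x) ?_ hx ((Commute.pow_left hcomm k).eq)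
  haveI : Fact (Nat.Prime 2) := ⟨Nat.prime_two⟩
  refine orderOf_eq_prime (by rw [← pow_mul, mul_comm, ← hk, pow_orderOf_eq_one])
    fun e => ?_
  have h0 : 0 < k := by omega
  have := Nat.le_of_dvd h0 (orderOf_dvd_of_pow_eq_one e)
  omega

end CfsgLib.J4Large
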