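import Cfsg.Agent.J4Large.Centraliser

/-!
The normalisers of the Sylow subgroups at 23, 29, 31, 37, 43 in a group of Janko-four type.
-/

set_option autoImplicit false
set_option linter.style.haveILetI false
set_option linter.unusedSectionVars false

namespace CfsgLib.J4Large

open Cfsg CfsgLib.J4Local Subgroup

variable {G : Type*} [Group G] [Finite G]

/-- The number `|C(U)| / r` for the Sylow `r`-subgroups `U`. -/
noncomputable def cval (G : Type*) [Group G] (r : ℕ) : ℕ :=
  Nat.card (centralizer (((default : Sylow r G) : Subgroup G) : Set G)) / r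

/-- The index of the centraliser in the normaliser of a Sylow `r`-subgroup. -/
noncomputable def evalIdx (G : Type*) [Group G] (r : ℕ) : ℕ :=
  ((centralizer (((default : Sylow r G) : Subgroup G) : Set G)).subgroupOf
    (normalizer (((default : Sylow r G) : Subgroup G) : Set G))).index

theorem card_normalizer_eq {r : ℕ} [Fact r.Prime] (U U' : Sylow r G) :
    Nat.card (normalizer ((U : Subgroup G) : Set G)) = Nat.card (normalizer ((U' : Subgroup G) : Set G)) := by
  have e1 : Nat.card (Sylow r G) = (normalizer ((U : Subgroup G) : Set G)).index := U.card_eq_index_normalizer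
  have e2 : Nat.card (Sylow r G) = (normalizer ((U' : Subgroup G) : Set G)).index := U'.card_eq_index_normalizer
  have h3 := (normalizer ((U : Subgroup G) : Set G)).card_mul_index
  have h4 := (normalizer ((U' : Subgroup G) : Set G)).card_mul_index
  rw [← e1] at h3
  rw [← e2] at h4
  exact Nat.eq_of_mul_eq_mul_right Nat.card_pos (h3.trans h4.symm)

theorem prime_of_bigs {r : ℕ} (hr : r ∈ bigs) : r.Prime := by
  simp only [bigs, List.mem_cons, List.not_mem_nil, or_false] at hr
  rcases hr with rfl | rfl | rfl | rfl | rfl <;> norm_num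

theorem exists_inj_of_le {p : ℕ} [Fact p.Prime] {S : Subgroup G} (hS : Nat.card S = p) :
    ∃ u : G, orderOf u = p ∧ zpowers u = S := by
  obtain ⟨u, hu⟩ := exists_prime_orderOf_dvd_card' (G := S) p hS.symm.dvd
  exact ⟨u, by rw [Subgroup.orderOf_coe, hu],
    eq_of_le_of_card_ge (zpowers_le.2 u.2) (by rw [Nat.card_zpowers, Subgroup.orderOf_coe, hu, hS])⟩

/-- An element of order prime to 10 normalising a subgroup of order 11 centralises it. -/
theorem cent_of_normalizes {a x : G} (hx : orderOf x = 11) (ha : (orderOf a).Coprime 10)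
    (h : a * x * a⁻¹ ∈ zpowers x) : a ∈ centralizer ({x} : Set G) := by
  haveI : Fact (Nat.Prime 11) := ⟨by norm_num⟩
  set Z := zpowers x
  have haN : a ∈ normalizer (Z : Set G) := by
    rw [Subgroup.mem_normalizer_iff_map_conj_eq, MonoidHom.map_zpowers]
    exact eq_of_le_of_card_ge (zpowers_le.2 h) (by
      rw [Nat.card_zpowers, Nat.card_zpowers]; exact (orderOf_conj_eq a x).ge)
  have hZ : Nat.card Z = 11 := by rw [Nat.card_zpowers, hx]
  haveI : IsCyclic ↥Z := isCyclic_of_prime_card hZ
  have hA : Z.normalizerMonoidHom ⟨a, haN⟩ = 1 := by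
    refine orderOf_eq_one_iff.1 (Nat.eq_one_of_dvd_coprimes ha ?_ ?_)
    · have := orderOf_map_dvd Z.normalizerMonoidHom ⟨a, haN⟩
      rwa [Subgroup.orderOf_mk] at this
    · refine (_root_.orderOf_dvd_natCard _).trans ?_
      rw [IsCyclic.card_mulAut, hZ, Nat.totient_prime (by norm_num)]
  have hker := MonoidHom.mem_ker.2 hA
  rw [Subgroup.normalizerMonoidHom_ker, Subgroup.mem_subgroupOf] at hker
  rw [← cent_zpowers]
  exact hker

variable {z : G} {P : Subgroup G} (hI : Inputs z P)

include hI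

section One

variable {r : ℕ} [Fact r.Prime] (hr : r ∈ bigs)

include hr

theorem sylow_card (U : Sylow r G) : Nat.card (U : Subgroup G) = r := by
  refine card_sylow U ?_ ?_ <;>
  · rw [hI.order]
    simp only [bigs, List.mem_cons, List.not_mem_nil, or_false] at hr
    rcases hr with rfl | rfl | rfl | rfl | rfl <;> norm_num [orderJ4]

theorem exists_sylow {u : G} (hu : orderOf u = r) : ∃ U : Sylow r G, (U : Subgroup G) = zpowers u := by
  obtain ⟨U, hU⟩ := (IsPGroup.of_card (p := r) (G := zpowers u) (n := 1)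
    (by rw [Nat.card_zpowers, hu, pow_one])).exists_le_sylow
  exact ⟨U, (eq_of_le_of_card_ge hU (by rw [sylow_card hI hr U, Nat.card_zpowers, hu])).symm⟩

theorem card_cent_eq (U U' : Sylow r G) :
    Nat.card (centralizer ((U : Subgroup G) : Set G)) = Nat.card (centralizer ((U' : Subgroup G) : Set G)) := by
  obtain ⟨u, hu, hUu⟩ := exists_inj_of_le (sylow_card hI hr U)
  obtain ⟨g, hg⟩ := MulAction.exists_smul_eq G U U'
  have hU' : (U' : Subgroup G) = zpowers (g * u * g⁻¹) := by
    rw [← hg, Sylow.coe_subgroup_smul, ← hUu]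
    exact MonoidHom.map_zpowers (MulAut.conj g).toMonoidHom u
  rw [← hUu, hU', cent_zpowers, cent_zpowers, card_cent_conj]

theorem exists_sylow_sub {W Q : Subgroup G} (hQW : Q ≤ W) (hQ : Nat.card Q = r) :
    ∃ S : Sylow r W, (S : Subgroup W).map W.subtype = Q := by
  obtain ⟨S, hS⟩ := (IsPGroup.of_card (p := r) (G := Q.subgroupOf W) (n := 1)
    (by rw [Nat.card_congr (subgroupOfEquivOfLe hQW).toEquiv, hQ, pow_one])).exists_le_sylow
  refine ⟨S, (eq_of_le_of_card_ge ?_ ?_).symm⟩
  · exact (Subgroup.subgroupOf_map_subtype Q W).symm.le.trans' (le_inf le_rfl hQW) |>.trans (Subgroup.map_mono hS)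
  · obtain ⟨T, hT⟩ := (S.isPGroup'.map W.subtype).exists_le_sylow
    exact (Subgroup.card_le_of_le hT).trans ((sylow_card hI hr T).trans hQ.symm).le

theorem card_C_U (U : Sylow r G) : Nat.card (centralizer ((U : Subgroup G) : Set G)) = r * cval G r := by
  have hd : r ∣ Nat.card (centralizer (((default : Sylow r G) : Subgroup G) : Set G)) := by
    obtain ⟨u, hu, hUu⟩ := exists_inj_of_le (sylow_card hI hr default)
    rw [← hUu, cent_zpowers]
    exact hu ▸ Subgroup.orderOf_dvd_natCard _ (mem_centralizer_singleton_iff.2 rfl)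
  rw [card_cent_eq hI hr U default, cval, Nat.mul_div_cancel' hd]

theorem card_N_U (U : Sylow r G) :
    Nat.card (normalizer ((U : Subgroup G) : Set G)) = r * cval G r * evalIdx G r := by
  rw [card_normalizer_eq U default, ← card_C_U hI hr default, evalIdx,
    ← Nat.card_congr (subgroupOfEquivOfLe (Subgroup.centralizer_le_normalizer
      (((default : Sylow r G) : Subgroup G) : Set G))).toEquiv, Subgroup.card_mul_index]

theorem index_C_N (U : Sylow r G) :
    ((centralizer ((U : Subgroup G) : Set G)).subgroupOf (normalizer ((U : Subgroup G) : Set G))).index =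
      evalIdx G r := by
  have h := ((centralizer ((U : Subgroup G) : Set G)).subgroupOf (normalizer ((U : Subgroup G) : Set G))).card_mul_index
  rw [Nat.card_congr (subgroupOfEquivOfLe (Subgroup.centralizer_le_normalizer _)).toEquiv, card_C_U hI hr,
    card_N_U hI hr] at h
  exact Nat.eq_of_mul_eq_mul_left (Nat.pos_of_ne_zero (by
    rw [← card_C_U hI hr U]; exact Nat.card_pos.ne')) h

theorem e_dvd : evalIdx G r ∣ r - 1 := by
  set U := ((default : Sylow r G) : Subgroup G)
  have hU : Nat.card U = r := sylow_card hI hr default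
  haveI : IsCyclic ↥U := isCyclic_of_prime_card hU
  rw [evalIdx, ← Subgroup.normalizerMonoidHom_ker, Subgroup.index_ker]
  refine (Subgroup.card_subgroup_dvd_card _).trans ?_
  rw [IsCyclic.card_mulAut, hU, Nat.totient_prime Fact.out]

theorem sylow_congr : r * cval G r * evalIdx G r ∣ orderJ4 ∧ orderJ4 / (r * cval G r * evalIdx G r) % r = 1 := by
  have hN := card_N_U hI hr (default : Sylow r G)
  have h := (normalizer (((default : Sylow r G) : Subgroup G) : Set G)).card_mul_index
  rw [hN, hI.order] at h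
  have e1 : Nat.card (Sylow r G) = (normalizer (((default : Sylow r G) : Subgroup G) : Set G)).index :=
    (default : Sylow r G).card_eq_index_normalizer
  rw [← e1] at h
  refine ⟨Dvd.intro _ h, ?_⟩
  rw [← h, Nat.mul_div_cancel_left _ (hN ▸ Nat.card_pos)]
  exact Eq.trans (card_sylow_modEq_one r G) (Nat.one_mod_eq_one.2 (Fact.out : r.Prime).ne_one)

theorem cval_dvd : cval G r ∣ (bigs.filter (· ≠ r)).prod * 1331 := by
  obtain ⟨u, hu, hUu⟩ := exists_inj_of_le (sylow_card hI hr default)
  have hC := card_C_U hI hr (default : Sylow r G)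
  rw [← hUu, cent_zpowers] at hC
  have hsmall : ∀ p : ℕ, p = 2 ∨ p = 3 ∨ p = 5 ∨ p = 7 → ¬ p ∣ cval G r := fun p hp hd => by
    haveI : Fact p.Prime := ⟨by rcases hp with rfl | rfl | rfl | rfl <;> norm_num⟩
    obtain ⟨g, hg⟩ := exists_prime_orderOf_dvd_card' (G := centralizer ({u} : Set G)) p
      (hC ▸ Dvd.dvd.mul_left hd r)
    refine no_big hI hp hr (g := (g : G)) (by rw [Subgroup.orderOf_coe, hg]) ?_
    exact hu ▸ Subgroup.orderOf_dvd_natCard _ (mem_centralizer_singleton_iff.2
      (mem_centralizer_singleton_iff.1 g.2).symm)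
  have hd : r * cval G r ∣ orderJ4 := hI.order ▸ hC ▸ Subgroup.card_subgroup_dvd_card _
  have hco : (cval G r).Coprime (2 ^ 21 * 3 ^ 3 * 5 * 7) := by
    refine Nat.Coprime.mul_right (Nat.Coprime.mul_right (Nat.Coprime.mul_right ?_ ?_) ?_) ?_
    · exact ((Nat.prime_two.coprime_iff_not_dvd).2 (hsmall 2 (by norm_num))).symm.pow_right _
    · exact ((Nat.prime_three.coprime_iff_not_dvd).2 (hsmall 3 (by norm_num))).symm.pow_right _
    · exact ((show Nat.Prime 5 by norm_num).coprime_iff_not_dvd.2 (hsmall 5 (by norm_num))).symm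
    · exact ((show Nat.Prime 7 by norm_num).coprime_iff_not_dvd.2 (hsmall 7 (by norm_num))).symm
  refine hco.dvd_of_dvd_mul_right (Nat.dvd_of_mul_dvd_mul_left (k := r) (Fact.out : r.Prime).pos ?_)
  refine hd.trans (dvd_of_eq ?_)
  simp only [bigs, List.mem_cons, List.not_mem_nil, or_false] at hr
  rcases hr with rfl | rfl | rfl | rfl | rfl <;> simp [bigs, orderJ4]

end One

theorem symm_dvd {r q : ℕ} (hr : r ∈ bigs) (hq : q ∈ bigs) (h : q ∣ cval G r) (hne : q ≠ r) :
    r ∣ cval G q ∧ evalIdx G r ∣ evalIdx G q * (q * cval G q) := by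
  haveI := Fact.mk (prime_of_bigs hr)
  haveI := Fact.mk (prime_of_bigs hq)
  set U : Sylow r G := default
  set C := centralizer ((U : Subgroup G) : Set G)
  set N := normalizer ((U : Subgroup G) : Set G)
  have hC : Nat.card C = r * cval G r := card_C_U hI hr U
  obtain ⟨y, hy⟩ := exists_prime_orderOf_dvd_card' (G := C) q (hC ▸ Dvd.dvd.mul_left h r)
  have hyo : orderOf (y : G) = q := by rw [Subgroup.orderOf_coe, hy]
  obtain ⟨Q, hQ⟩ := exists_sylow hI hq hyo
  have hQC : (Q : Subgroup G) ≤ C := hQ ▸ zpowers_le.2 y.2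
  refine ⟨?_, ?_⟩
  · have hUC : (U : Subgroup G) ≤ centralizer ((Q : Subgroup G) : Set G) := fun a ha =>
      mem_centralizer_iff.2 fun b hb => (mem_centralizer_iff.1 (hQC hb) a ha).symm
    have h1 := Subgroup.card_dvd_of_le hUC
    rw [card_C_U hI hq, sylow_card hI hr U] at h1
    exact (((Nat.coprime_primes (Fact.out : r.Prime) (Fact.out : q.Prime)).2 hne.symm).dvd_of_dvd_mul_left h1)
  · -- every coset of `C` in `N` meets the normaliser of `Q`
    haveI : (C.subgroupOf N).Normal :=
      (Subgroup.normalizerMonoidHom_ker (U : Subgroup G)) ▸ MonoidHom.normal_ker _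
    set M := (normalizer ((Q : Subgroup G) : Set G)).subgroupOf N with hM
    have hsurj : Function.Surjective ((QuotientGroup.mk' (C.subgroupOf N)).comp M.subtype) := by
      intro a
      obtain ⟨g, rfl⟩ := QuotientGroup.mk'_surjective (C.subgroupOf N) a
      have hgQ : (Q : Subgroup G).map (MulAut.conj (g : G)).toMonoidHom ≤ C := by
        rintro _ ⟨b, hb, rfl⟩
        have := (inferInstance : (C.subgroupOf N).Normal).conj_mem
          ⟨b, Subgroup.centralizer_le_normalizer _ (hQC hb)⟩ (hQC hb) g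
        exact this
      obtain ⟨Q1, hQ1⟩ := exists_sylow_sub hI hq hQC (sylow_card hI hq Q)
      obtain ⟨Q2, hQ2⟩ := exists_sylow_sub hI hq hgQ (by
        rw [Subgroup.card_map_of_injective (MulAut.conj (g : G)).injective, sylow_card hI hq Q])
      obtain ⟨c, hc⟩ := MulAction.exists_smul_eq C Q2 Q1
      have hcN : (c : G) ∈ N := Subgroup.centralizer_le_normalizer _ c.2
      refine ⟨⟨⟨c, hcN⟩ * g, ?_⟩, ?_⟩
      · rw [hM, Subgroup.mem_subgroupOf, Subgroup.mem_normalizer_iff_map_conj_eq]
        refine eq_of_le_of_card_ge ?_ (by rw [Subgroup.card_map_of_injective (MulAut.conj _).injective])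
        rintro _ ⟨b, hb, rfl⟩
        obtain ⟨d, hd, hdb⟩ : (g : G) * b * (g : G)⁻¹ ∈ (Q2 : Subgroup C).map C.subtype := by
          rw [hQ2]; exact ⟨b, hb, rfl⟩
        have h2 : c * d * c⁻¹ ∈ (Q1 : Subgroup C) := by
          rw [← hc, Sylow.coe_subgroup_smul]
          exact ⟨d, hd, rfl⟩
        have h3 : (c : G) * ((g : G) * b * (g : G)⁻¹) * (c : G)⁻¹ ∈ (Q : Subgroup G) := by
          rw [← hQ1, ← hdb]
          exact ⟨_, h2, rfl⟩
        show ((c : G) * (g : G)) * b * ((c : G) * (g : G))⁻¹ ∈ (Q : Subgroup G)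
        rwa [show ((c : G) * (g : G)) * b * ((c : G) * (g : G))⁻¹ =
          (c : G) * ((g : G) * b * (g : G)⁻¹) * (c : G)⁻¹ by group]
      · show QuotientGroup.mk' (C.subgroupOf N) (⟨c, hcN⟩ * g) = _
        rw [map_mul, show QuotientGroup.mk' (C.subgroupOf N) (⟨c, hcN⟩ : N) = 1 from
          (QuotientGroup.eq_one_iff _).2 c.2, one_mul]
    have h1 := Subgroup.card_dvd_of_surjective _ hsurj
    rw [← Subgroup.index_eq_card, index_C_N hI hr U] at h1
    have h2 : Nat.card M ∣ Nat.card (normalizer ((Q : Subgroup G) : Set G)) := by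
      have hm : M.map N.subtype ≤ normalizer ((Q : Subgroup G) : Set G) := Subgroup.map_le_iff_le_comap.2 le_rfl
      have := Subgroup.card_dvd_of_le hm
      rwa [Subgroup.card_map_of_injective Subtype.val_injective] at this
    rw [card_N_U hI hq] at h2
    rw [mul_comm (evalIdx G q)]
    exact h1.trans h2

theorem thirtyone : 5 ∣ evalIdx G 31 := by
  haveI : Fact (Nat.Prime 31) := ⟨by norm_num⟩
  have hr : 31 ∈ bigs := by simp [bigs]
  obtain ⟨K, hK⟩ := hI.l52
  let S : Sylow 31 K := default
  have hfac : (9999360 : ℕ).factorization 31 = 1 := by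
    rw [show (9999360 : ℕ) = 31 * 322560 by norm_num, Nat.factorization_mul (by norm_num) (by norm_num),
      Finsupp.add_apply, Nat.Prime.factorization_self (by norm_num),
      Nat.factorization_eq_zero_of_not_dvd (by norm_num : ¬ 31 ∣ 322560)]
  have hS : Nat.card (S : Subgroup K) = 31 := by rw [S.card_eq_multiplicity, hK, hfac, pow_one]
  obtain ⟨u, hu, hSu⟩ := exists_inj_of_le hS
  obtain ⟨U, hU⟩ := exists_sylow hI hr (u := (u : G)) (by rw [Subgroup.orderOf_coe, hu])
  set D := normalizer ((S : Subgroup K) : Set K)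
  have hle : D.map K.subtype ≤ normalizer ((U : Subgroup G) : Set G) := by
    rw [hU, show zpowers (u : G) = (S : Subgroup K).map K.subtype by rw [← hSu, MonoidHom.map_zpowers, Subgroup.coe_subtype]]
    exact Subgroup.le_normalizer_map _
  have h1 := Subgroup.card_dvd_of_le hle
  rw [Subgroup.card_map_of_injective Subtype.val_injective, card_N_U hI hr] at h1
  obtain ⟨d, hd⟩ : 31 ∣ Nat.card D := hS ▸ Subgroup.card_dvd_of_le Subgroup.le_normalizer
  have h2 : Nat.card (Sylow 31 K) = D.index := S.card_eq_index_normalizer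
  have h3 := D.card_mul_index
  rw [hd, hK] at h3
  have h4 := card_sylow_modEq_one 31 K
  rw [h2] at h4
  have h5 : d * D.index = 322560 := by linarith
  have hd1 : d ∣ 322560 := Dvd.intro _ h5
  rw [hd, mul_assoc] at h1
  have hco : d.Coprime (cval G 31) := by
    refine Nat.Coprime.coprime_dvd_left hd1 (Nat.Coprime.coprime_dvd_right (cval_dvd hI hr) ?_)
    norm_num [bigs]
  have hde : d ∣ evalIdx G 31 :=
    hco.dvd_of_dvd_mul_left (Nat.dvd_of_mul_dvd_mul_left (by norm_num) h1)
  have hd30 := Nat.le_of_dvd (by norm_num) (hde.trans (e_dvd hI hr))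
  have h6 : D.index = 322560 / d := by
    rw [← h5, Nat.mul_div_cancel_left]
    exact Nat.pos_of_ne_zero fun h => by simp [h] at h5
  rw [h6] at h4
  change 322560 / d % 31 = 1 at h4
  have hd5 : 5 ∣ d := by
    have hd30' := hde.trans (e_dvd hI hr)
    interval_cases d <;> first | omega | (norm_num at hd30'; done) | (norm_num at h4; done) | norm_num
  exact hd5.trans hde

theorem twentythree : 11 ∣ evalIdx G 23 := by
  haveI : Fact (Nat.Prime 23) := ⟨by norm_num⟩
  haveI : Fact (Nat.Prime 11) := ⟨by norm_num⟩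
  have hr : 23 ∈ bigs := by simp [bigs]
  obtain ⟨K, ⟨e⟩⟩ := hI.m24
  have hK : Nat.card K = 244823040 := (Nat.card_congr e.toEquiv).trans CfsgLib.Golay.card_M24
  let S : Sylow 23 K := default
  have hfac : (244823040 : ℕ).factorization 23 = 1 := by
    rw [show (244823040 : ℕ) = 23 * 10644480 by norm_num, Nat.factorization_mul (by norm_num) (by norm_num),
      Finsupp.add_apply, Nat.Prime.factorization_self (by norm_num),
      Nat.factorization_eq_zero_of_not_dvd (by norm_num : ¬ 23 ∣ 10644480)]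
  have hS : Nat.card (S : Subgroup K) = 23 := by rw [S.card_eq_multiplicity, hK, hfac, pow_one]
  obtain ⟨u, hu, hSu⟩ := exists_inj_of_le hS
  obtain ⟨U, hU⟩ := exists_sylow hI hr (u := (u : G)) (by rw [Subgroup.orderOf_coe, hu])
  set D := normalizer ((S : Subgroup K) : Set K)
  set C := centralizer ((U : Subgroup G) : Set G)
  set N := normalizer ((U : Subgroup G) : Set G)
  have hle : D.map K.subtype ≤ N := by
    show _ ≤ normalizer ((U : Subgroup G) : Set G)
    rw [hU, show zpowers (u : G) = (S : Subgroup K).map K.subtype by rw [← hSu, MonoidHom.map_zpowers, Subgroup.coe_subtype]]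
    exact Subgroup.le_normalizer_map _
  by_contra hno
  -- no element of order 11 of `K` normalises `U`
  have h11 : ¬ 11 ∣ Nat.card D := by
    intro h
    obtain ⟨y, hy⟩ := exists_prime_orderOf_dvd_card' (G := D) 11 h
    have hy' : orderOf (y : K) = 11 := by rw [Subgroup.orderOf_coe, hy]
    have hyN : ((y : K) : G) ∈ N := hle ⟨y, y.2, rfl⟩
    haveI : (C.subgroupOf N).Normal :=
      (Subgroup.normalizerMonoidHom_ker (U : Subgroup G)) ▸ MonoidHom.normal_ker _
    have hpow := (C.subgroupOf N).pow_index_mem ⟨_, hyN⟩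
    rw [index_C_N hI hr U] at hpow
    have hco : Nat.Coprime (orderOf (⟨((y : K) : G), hyN⟩ : N)) (evalIdx G 23) := by
      rw [Subgroup.orderOf_mk, Subgroup.orderOf_coe, hy']
      exact (show Nat.Prime 11 by norm_num).coprime_iff_not_dvd.2 hno
    obtain ⟨m, hm⟩ := exists_pow_eq_self_of_coprime hco.symm
    have hyC : ((y : K) : G) ∈ C := by
      have := pow_mem hpow m
      rw [hm] at this
      exact this
    have hc : (y : K) * u = u * (y : K) := Subtype.ext
      (mem_centralizer_iff.1 hyC (u : G) (hU ▸ mem_zpowers _)).symm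
    refine no_eleven_twentythree (u := e u) (v := e (y : K)) (by rw [MulEquiv.orderOf_eq, hu])
      (by rw [MulEquiv.orderOf_eq, hy']) ?_
    rw [← map_mul, ← map_mul, hc]
  have h1 := Subgroup.card_dvd_of_le hle
  rw [Subgroup.card_map_of_injective Subtype.val_injective, card_N_U hI hr] at h1
  obtain ⟨d, hd⟩ : 23 ∣ Nat.card D := hS ▸ Subgroup.card_dvd_of_le Subgroup.le_normalizer
  have h2 : Nat.card (Sylow 23 K) = D.index := S.card_eq_index_normalizer
  have h3 := D.card_mul_index
  rw [hd, hK] at h3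
  have h4 := card_sylow_modEq_one 23 K
  rw [h2] at h4
  have h5 : d * D.index = 10644480 := by linarith
  have hd1 : d ∣ 10644480 := Dvd.intro _ h5
  rw [hd, mul_assoc] at h1
  have hd11 : ¬ 11 ∣ d := fun h => h11 (hd ▸ Dvd.dvd.mul_left h 23)
  have hco : d.Coprime (cval G 23) := by
    refine Nat.Coprime.coprime_dvd_right (cval_dvd hI hr) (Nat.Coprime.mul_right ?_ ?_)
    · refine Nat.Coprime.coprime_dvd_left hd1 ?_
      norm_num [bigs]
    · rw [show (1331 : ℕ) = 11 ^ 3 by norm_num]
      exact ((show Nat.Prime 11 by norm_num).coprime_iff_not_dvd.2 hd11).symm.pow_right _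
  have hde : d ∣ evalIdx G 23 :=
    hco.dvd_of_dvd_mul_left (Nat.dvd_of_mul_dvd_mul_left (by norm_num) h1)
  have hd22' := hde.trans (e_dvd hI hr)
  have hd22 := Nat.le_of_dvd (by norm_num) hd22'
  have h6 : D.index = 10644480 / d := by
    rw [← h5, Nat.mul_div_cancel_left]
    exact Nat.pos_of_ne_zero fun h => by simp [h] at h5
  rw [h6] at h4
  change 10644480 / d % 23 = 1 at h4
  interval_cases d <;> first | omega | (norm_num at hd22'; done) | (norm_num at h4; done) | (norm_num at hd11; done)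

theorem values_of : cval G 23 = 1 ∧ evalIdx G 23 = 22 ∧ cval G 29 = 1 ∧ evalIdx G 29 = 28 ∧
    ((cval G 31 = 1 ∧ evalIdx G 31 = 10) ∨ (cval G 31 = 11 ∧ evalIdx G 31 = 15)) ∧
    cval G 37 = 1 ∧ evalIdx G 37 = 12 ∧ cval G 43 = 1 ∧ evalIdx G 43 = 14 := by
  have h := values (f := fun r => (cval G r, evalIdx G r)) (fun r hr => ?_) fun r hr q hq hne => ?_
  · simp only [Prod.mk.injEq] at h
    tauto
  · haveI := Fact.mk (prime_of_bigs hr)
    refine ⟨cval_dvd hI hr, ?_⟩
    simp only [good, Bool.and_eq_true, Bool.or_eq_true, decide_eq_true_eq]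
    refine ⟨⟨⟨⟨e_dvd hI hr, (sylow_congr hI hr).1⟩, (sylow_congr hI hr).2⟩, ?_⟩, ?_⟩
    · exact (ne_or_eq r 31).imp_right fun (e : r = 31) => by subst e; exact thirtyone hI
    · exact (ne_or_eq r 23).imp_right fun (e : r = 23) => by subst e; exact twentythree hI
  · simp only [compat, Bool.and_eq_true, Bool.or_eq_true, decide_eq_true_eq]
    refine ⟨⟨fun h => (symm_dvd hI hr hq h hne).1, fun h => (symm_dvd hI hq hr h hne.symm).1⟩, ?_⟩
    by_cases h : q ∣ cval G r
    · exact Or.inr ⟨(symm_dvd hI hr hq h hne).2,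
        (symm_dvd hI hq hr (symm_dvd hI hr hq h hne).1 hne.symm).2⟩
    · exact Or.inl h

/-- An element of order 11 commuting with a subgroup of order 31 whose centraliser has order 341. -/
theorem not_exceptional : ¬ (cval G 31 = 11 ∧ evalIdx G 31 = 15) := by
  rintro ⟨hc, he⟩
  obtain ⟨v23, -, v29, -, -, v37, -, v43, -⟩ := values_of hI
  haveI : Fact (Nat.Prime 31) := ⟨by norm_num⟩
  haveI : Fact (Nat.Prime 11) := ⟨by norm_num⟩
  haveI : Fact (Nat.Prime 3) := ⟨Nat.prime_three⟩
  have hr : 31 ∈ bigs := by simp [bigs]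
  set U : Sylow 31 G := default
  set C := centralizer ((U : Subgroup G) : Set G)
  set N := normalizer ((U : Subgroup G) : Set G)
  have hC : Nat.card C = 341 := by rw [card_C_U hI hr U, hc]
  have hN : Nat.card N = 5115 := by rw [card_N_U hI hr U, hc, he]
  obtain ⟨g, hg⟩ := exists_prime_orderOf_dvd_card' (G := N) 3 (by rw [hN]; norm_num)
  obtain ⟨y, hy⟩ := exists_prime_orderOf_dvd_card' (G := C) 11 (by rw [hC]; norm_num)
  set x : G := (y : G) with hxdef
  have hx : orderOf x = 11 := by rw [hxdef, Subgroup.orderOf_coe, hy]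
  set X := centralizer ({x} : Set G) with hX
  -- the subgroup of order 11 of `C` is normalised, hence centralised, by `g`
  haveI : (C.subgroupOf N).Normal :=
    (Subgroup.normalizerMonoidHom_ker (U : Subgroup G)) ▸ MonoidHom.normal_ker _
  have hgC : (g : G) * x * (g : G)⁻¹ ∈ C :=
    (inferInstance : (C.subgroupOf N).Normal).conj_mem ⟨x, Subgroup.centralizer_le_normalizer _ y.2⟩ y.2 g
  have hS : ∀ T : Sylow 11 C, Nat.card (T : Subgroup C) = 11 := fun T => by
    rw [T.card_eq_multiplicity, hC, show (341 : ℕ) = 11 * 31 by norm_num,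
      Nat.factorization_mul (by norm_num) (by norm_num), Finsupp.add_apply,
      Nat.Prime.factorization_self (by norm_num), Nat.factorization_eq_zero_of_not_dvd (by norm_num : ¬ 11 ∣ 31),
      pow_one]
  have hn1 : Nat.card (Sylow 11 C) = 1 := by
    obtain ⟨T⟩ : Nonempty (Sylow 11 C) := inferInstance
    have h1 := T.card_dvd_index
    have h2 := (T : Subgroup C).card_mul_index
    rw [hS T, hC] at h2
    rw [show (T : Subgroup C).index = 31 by omega] at h1
    have h3 := card_sylow_modEq_one 11 C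
    rcases (Nat.dvd_prime (by norm_num : Nat.Prime 31)).1 h1 with h | h
    · exact h
    · rw [h] at h3
      norm_num [Nat.ModEq] at h3
  haveI := (Nat.card_eq_one_iff_unique.1 hn1).1
  have hmem : ∀ w : C, orderOf w = 11 → w ∈ zpowers y := fun w hw => by
    obtain ⟨T, hT⟩ := (IsPGroup.of_card (p := 11) (G := zpowers w) (n := 1)
      (by rw [Nat.card_zpowers, hw, pow_one])).exists_le_sylow
    obtain ⟨T', hT'⟩ := (IsPGroup.of_card (p := 11) (G := zpowers y) (n := 1)
      (by rw [Nat.card_zpowers, hy, pow_one])).exists_le_sylow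
    rw [eq_of_le_of_card_ge hT' (by rw [hS, Nat.card_zpowers, hy]), Subsingleton.elim T' T]
    exact hT (mem_zpowers w)
  have hgx : (g : G) * x * (g : G)⁻¹ ∈ zpowers x := by
    obtain ⟨i, hi⟩ := hmem ⟨_, hgC⟩ (by rw [Subgroup.orderOf_mk, orderOf_conj_eq, hx])
    exact ⟨i, congrArg Subtype.val hi⟩
  have hgcent : (g : G) ∈ X := cent_of_normalizes hx (by rw [Subgroup.orderOf_coe, hg]; norm_num) hgx
  -- the order of the centraliser of `x`
  have hxU : (U : Subgroup G) ≤ X := fun a ha =>
    mem_centralizer_singleton_iff.2 (mem_centralizer_iff.1 y.2 a ha)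
  have hXG : Nat.card X ∣ orderJ4 := hI.order ▸ Subgroup.card_subgroup_dvd_card _
  have hno : ∀ p : ℕ, p = 5 ∨ p = 7 → ¬ p ∣ Nat.card X := fun p hp hd => by
    haveI : Fact p.Prime := ⟨by rcases hp with rfl | rfl <;> norm_num⟩
    obtain ⟨w, hw⟩ := exists_prime_orderOf_dvd_card' (G := X) p hd
    refine no_five_seven hI hp (g := (w : G)) (by rw [Subgroup.orderOf_coe, hw]) ?_
    exact hx ▸ Subgroup.orderOf_dvd_natCard _ (mem_centralizer_singleton_iff.2
      (mem_centralizer_singleton_iff.1 w.2).symm)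
  have hbig : ∀ q ∈ bigs, cval G q = 1 → ¬ q ∣ Nat.card X := fun q hq h1 hd => by
    haveI := Fact.mk (prime_of_bigs hq)
    obtain ⟨w, hw⟩ := exists_prime_orderOf_dvd_card' (G := X) q hd
    obtain ⟨W, hW⟩ := exists_sylow hI hq (u := (w : G)) (by rw [Subgroup.orderOf_coe, hw])
    have h := card_C_U hI hq W
    rw [h1, mul_one, hW, cent_zpowers] at h
    have h11 : 11 ∣ q := h ▸ hx ▸ Subgroup.orderOf_dvd_natCard _ (mem_centralizer_singleton_iff.2
      (mem_centralizer_singleton_iff.1 w.2).symm)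
    simp only [bigs, List.mem_cons, List.not_mem_nil, or_false] at hq
    rcases hq with rfl | rfl | rfl | rfl | rfl <;> norm_num at h11
  have hsmall : Nat.card X ∣ 2 ^ 3 * 3 * 11 ^ 3 * 31 := by
    obtain ⟨a, ha2, hb2⟩ : ∃ a ≤ 3, ∃ m, ¬ 2 ∣ m ∧ Nat.card X = 2 ^ a * m := by
      obtain ⟨a, m, hm, he⟩ := Nat.exists_eq_pow_mul_and_not_dvd Nat.card_pos.ne' 2 (by norm_num) (n := Nat.card X)
      refine ⟨a, ?_, m, hm, he⟩
      by_contra ha
      exact no_sixteen hI hx ⟨2 ^ (a - 4) * m, by
        rw [show Nat.card (centralizer ({x} : Set G)) = Nat.card X from rfl, he, ← mul_assoc,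
          show (16 : ℕ) = 2 ^ 4 by norm_num, ← pow_add, show 4 + (a - 4) = a by omega]⟩
    obtain ⟨m, hm, he⟩ := hb2
    obtain ⟨b, n, hn, hme⟩ := Nat.exists_eq_pow_mul_and_not_dvd (n := m)
      (fun h => hm (h ▸ dvd_zero 2)) 3 (by norm_num)
    have hb : b ≤ 1 := by
      by_contra hb
      exact no_nine hI hx ⟨2 ^ a * 3 ^ (b - 2) * n, by
        rw [show Nat.card (centralizer ({x} : Set G)) = Nat.card X from rfl, he, hme,
          show (9 : ℕ) = 3 ^ 2 by norm_num,
          show 3 ^ b = 3 ^ 2 * 3 ^ (b - 2) by rw [← pow_add, show 2 + (b - 2) = b by omega]]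
        ring⟩
    have hn_dvd : n ∣ Nat.card X := ⟨2 ^ a * 3 ^ b, by rw [he, hme]; ring⟩
    have hco : n.Coprime (2 ^ 21 * 3 ^ 3 * 5 * 7 * 23 * 29 * 37 * 43) := by
      have hp : ∀ q : ℕ, q.Prime → ¬ q ∣ n → n.Coprime q := fun q hq h => (hq.coprime_iff_not_dvd.2 h).symm
      refine Nat.Coprime.mul_right (Nat.Coprime.mul_right (Nat.Coprime.mul_right (Nat.Coprime.mul_right
        (Nat.Coprime.mul_right (Nat.Coprime.mul_right (Nat.Coprime.mul_right ?_ ?_) ?_) ?_) ?_) ?_) ?_) ?_
      · exact (hp 2 Nat.prime_two fun h => hm (hme ▸ Dvd.dvd.mul_left h _)).pow_right _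
      · exact (hp 3 Nat.prime_three hn).pow_right _
      · exact hp 5 (by norm_num) fun h => hno 5 (Or.inl rfl) (h.trans hn_dvd)
      · exact hp 7 (by norm_num) fun h => hno 7 (Or.inr rfl) (h.trans hn_dvd)
      · exact hp 23 (by norm_num) fun h => hbig 23 (by simp [bigs]) v23 (h.trans hn_dvd)
      · exact hp 29 (by norm_num) fun h => hbig 29 (by simp [bigs]) v29 (h.trans hn_dvd)
      · exact hp 37 (by norm_num) fun h => hbig 37 (by simp [bigs]) v37 (h.trans hn_dvd)
      · exact hp 43 (by norm_num) fun h => hbig 43 (by simp [bigs]) v43 (h.trans hn_dvd)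
    have hn' : n ∣ 11 ^ 3 * 31 := hco.dvd_of_dvd_mul_left
      ((hn_dvd.trans hXG).trans (dvd_of_eq (by norm_num [orderJ4])))
    rw [he, hme, mul_assoc (2 ^ 3 * 3), mul_assoc (2 ^ 3), show (2 : ℕ) ^ 3 * (3 * (11 ^ 3 * 31)) =
      2 ^ 3 * (3 ^ 1 * (11 ^ 3 * 31)) by norm_num]
    exact mul_dvd_mul (pow_dvd_pow 2 ha2) (mul_dvd_mul (pow_dvd_pow 3 hb) hn')
  have h121 : 121 ∣ Nat.card X := by
    haveI := Fact.mk (show Nat.Prime 11 by norm_num)
    obtain ⟨T, hT⟩ := (IsPGroup.of_card (p := 11) (G := zpowers x) (n := 1)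
      (by rw [Nat.card_zpowers, hx, pow_one])).exists_le_sylow
    have hTc : Nat.card (T : Subgroup G) = 11 ^ 3 := by
      rw [T.card_eq_multiplicity, hI.order, show orderJ4 = 11 ^ 3 * (orderJ4 / 11 ^ 3) by norm_num [orderJ4],
        Nat.factorization_mul (by norm_num) (by norm_num [orderJ4]), Finsupp.add_apply,
        Nat.Prime.factorization_pow (by norm_num), Finsupp.single_eq_same,
        Nat.factorization_eq_zero_of_not_dvd (by norm_num [orderJ4] : ¬ 11 ∣ orderJ4 / 11 ^ 3)]
    have hx1 : x ∈ (T : Subgroup G) := hT (mem_zpowers x)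
    set x' : (T : Subgroup G) := ⟨x, hx1⟩
    have hCT : (centralizer ({x'} : Set (T : Subgroup G))).map (T : Subgroup G).subtype ≤ X := by
      rintro _ ⟨a, ha, rfl⟩
      exact mem_centralizer_singleton_iff.2 (congrArg Subtype.val (mem_centralizer_singleton_iff.1 ha))
    refine dvd_trans ?_ (Subgroup.card_dvd_of_le hCT)
    rw [Subgroup.card_map_of_injective Subtype.val_injective]
    set A := centralizer ({x'} : Set (T : Subgroup G))
    obtain ⟨k, hk⟩ := IsPGroup.iff_card.1 (T.isPGroup'.to_subgroup A)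
    have hA : 11 < Nat.card A := by
      by_contra hA
      have hzx : zpowers x' = A := eq_of_le_of_card_ge (zpowers_le.2 (mem_centralizer_singleton_iff.2 rfl))
        (by rw [Nat.card_zpowers, Subgroup.orderOf_mk, hx]; omega)
      haveI : Nontrivial (T : Subgroup G) := Finite.one_lt_card_iff_nontrivial.1 (by rw [hTc]; norm_num)
      have hctr : center (T : Subgroup G) ≤ zpowers x' := hzx ▸ Subgroup.center_le_centralizer _
      haveI := (IsPGroup.of_card (p := 11) hTc).center_nontrivial
      have : center (T : Subgroup G) = zpowers x' := by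
        refine eq_of_le_of_card_ge hctr ?_
        have h1 := Finite.one_lt_card_iff_nontrivial.2 (inferInstance : Nontrivial (center (T : Subgroup G)))
        have h2 := Subgroup.card_dvd_of_le hctr
        rw [Nat.card_zpowers, Subgroup.orderOf_mk, hx] at h2 ⊢
        rcases (Nat.dvd_prime (by norm_num : Nat.Prime 11)).1 h2 with h | h <;> omega
      have hall : A = ⊤ := eq_top_iff.2 fun a _ => mem_centralizer_singleton_iff.2
        (Subgroup.mem_center_iff.1 (this.ge (mem_zpowers x')) a)
      rw [hall, Subgroup.card_top, hTc] at hA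
      omega
    rw [hk] at hA ⊢
    have : 2 ≤ k := by
      by_contra h
      interval_cases k <;> norm_num at hA
    exact (show (121 : ℕ) = 11 ^ 2 by norm_num) ▸ pow_dvd_pow 11 this
  -- Sylow's theorem in the centraliser
  obtain ⟨S, hS31⟩ := exists_sylow_sub hI hr hxU (sylow_card hI hr U)
  set D := normalizer ((S : Subgroup X) : Set X)
  have hle : D.map X.subtype ≤ N := by
    show _ ≤ normalizer ((U : Subgroup G) : Set G)
    rw [← hS31]
    exact Subgroup.le_normalizer_map _
  have hCX : C ≤ X := by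
    -- `C` is generated by `U` and `x`
    intro a ha
    refine cent_of_normalizes hx ?_ ?_
    · exact Nat.Coprime.coprime_dvd_left (hC ▸ Subgroup.orderOf_dvd_natCard _ ha) (by norm_num)
    · obtain ⟨i, hi⟩ := hmem ⟨a * x * a⁻¹, mul_mem (mul_mem ha y.2) (inv_mem ha)⟩
        (by rw [Subgroup.orderOf_mk, orderOf_conj_eq, hx])
      exact ⟨i, congrArg Subtype.val hi⟩
  have hUS : ∀ a : X, a ∈ (S : Subgroup X) ↔ (a : G) ∈ (U : Subgroup G) := fun a =>
    ⟨fun h => hS31 ▸ ⟨a, h, rfl⟩, fun h => by
      rw [← hS31] at h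
      obtain ⟨b, hb, hba⟩ := h
      rwa [← show b = a from Subtype.ext hba]⟩
  have h1023 : 1023 ∣ Nat.card D := by
    rw [show (1023 : ℕ) = 341 * 3 by norm_num]
    refine Nat.Coprime.mul_dvd_of_dvd_of_dvd (by norm_num) ?_ ?_
    · have : C.subgroupOf X ≤ D := by
        intro a ha
        refine Subgroup.centralizer_le_normalizer _ (mem_centralizer_iff.2 fun b hb => Subtype.ext ?_)
        exact mem_centralizer_iff.1 ha b ((hUS b).1 hb)
      have h := Subgroup.card_dvd_of_le this
      rwa [Nat.card_congr (subgroupOfEquivOfLe hCX).toEquiv, hC] at h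
    · have hgD : (⟨g, hgcent⟩ : X) ∈ D := by
        refine Subgroup.mem_normalizer_iff.2 fun b => ?_
        rw [hUS, hUS]
        exact Subgroup.mem_normalizer_iff.1 g.2 b
      have h := Subgroup.orderOf_dvd_natCard _ hgD
      rwa [Subgroup.orderOf_mk, Subgroup.orderOf_coe, hg] at h
  have hD : Nat.card D = 1023 := by
    have h1 := Subgroup.card_dvd_of_le hle
    rw [Subgroup.card_map_of_injective Subtype.val_injective, hN] at h1
    have h2 := (Subgroup.card_subgroup_dvd_card D).trans hsmall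
    have h3 := Nat.dvd_gcd h1 h2
    norm_num at h3
    exact Nat.dvd_antisymm h3 h1023
  have h2 : Nat.card (Sylow 31 X) = D.index := S.card_eq_index_normalizer
  have h3 := D.card_mul_index
  rw [hD] at h3
  have h4 := card_sylow_modEq_one 31 X
  rw [h2] at h4
  set n := D.index
  rw [← h3] at hsmall h121
  have hn : n ∣ 968 := Nat.dvd_of_mul_dvd_mul_left (show 0 < 1023 by norm_num) (by simpa using hsmall)
  change n % 31 = 1 at h4
  have hn11 : 11 ∣ n := by
    have : 121 ∣ 11 * (93 * n) := by rwa [show 11 * (93 * n) = 1023 * n by ring]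
    exact (show Nat.Coprime 11 93 by norm_num).dvd_of_dvd_mul_left
      (Nat.dvd_of_mul_dvd_mul_left (show 0 < 11 by norm_num) this)
  obtain ⟨k, hk'⟩ : ∃ k, n = 11 * k := hn11
  rw [hk'] at hn h4
  have hk : k ∣ 88 := Nat.dvd_of_mul_dvd_mul_left (show 0 < 11 by norm_num) hn
  have := Nat.le_of_dvd (by norm_num) hk
  interval_cases k <;> first | omega | (norm_num at hk)

/-- The Sylow subgroups at the large primes are self-centralising with normalisers of the stated orders. -/
theorem main :
    (∀ U : Sylow 23 G, centralizer ((U : Subgroup G) : Set G) = (U : Subgroup G) ∧ Nat.card ↥(normalizer ((U : Subgroup G) : Set G)) = 23 * 22) ∧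
    (∀ U : Sylow 29 G, centralizer ((U : Subgroup G) : Set G) = (U : Subgroup G) ∧ Nat.card ↥(normalizer ((U : Subgroup G) : Set G)) = 29 * 28) ∧
    (∀ U : Sylow 31 G, centralizer ((U : Subgroup G) : Set G) = (U : Subgroup G) ∧ Nat.card ↥(normalizer ((U : Subgroup G) : Set G)) = 31 * 10) ∧
    (∀ U : Sylow 37 G, centralizer ((U : Subgroup G) : Set G) = (U : Subgroup G) ∧ Nat.card ↥(normalizer ((U : Subgroup G) : Set G)) = 37 * 12) ∧
    (∀ U : Sylow 43 G, centralizer ((U : Subgroup G) : Set G) = (U : Subgroup G) ∧ Nat.card ↥(normalizer ((U : Subgroup G) : Set G)) = 43 * 14) := by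
  obtain ⟨c1, e1, c2, e2, h31, c4, e4, c5, e5⟩ := values_of hI
  obtain ⟨c3, e3⟩ := h31.resolve_right (not_exceptional hI)
  have key : ∀ r : ℕ, r ∈ bigs → ∀ e : ℕ, cval G r = 1 → evalIdx G r = e → ∀ U : Sylow r G,
      centralizer ((U : Subgroup G) : Set G) = (U : Subgroup G) ∧
      Nat.card ↥(normalizer ((U : Subgroup G) : Set G)) = r * e := by
    intro r hr e hc he U
    haveI := Fact.mk (prime_of_bigs hr)
    refine ⟨(eq_of_le_of_card_ge ?_ ?_).symm, by rw [card_N_U hI hr U, hc, he, mul_one]⟩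
    · obtain ⟨u, hu, hUu⟩ := exists_inj_of_le (sylow_card hI hr U)
      rw [← hUu, cent_zpowers]
      exact zpowers_le.2 (mem_centralizer_singleton_iff.2 rfl)
    · rw [card_C_U hI hr U, hc, mul_one, sylow_card hI hr U]
  exact ⟨key 23 (by simp [bigs]) 22 c1 e1, key 29 (by simp [bigs]) 28 c2 e2, key 31 (by simp [bigs]) 10 c3 e3,
    key 37 (by simp [bigs]) 12 c4 e4, key 43 (by simp [bigs]) 14 c5 e5⟩

end CfsgLib.J4Large
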